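import Mathlib

set_option autoImplicit false

/-! T2933 PartAB piece AB10 (pure Mathlib).  An element of maximal order.
PROOF: take `y` maximizing `orderOf` (`Finite.exists_max`); orders are powers of 2, so each `orderOf x = 2 ^ k` with `k ≤ n` divides `2 ^ n`. -/
namespace Cfsg.Agent.Lib.Helper47.T2933

theorem AB10_max_order {T : Type*} [Group T] [Finite T] (hT : IsPGroup 2 T)
    (hcomm : ∀ g k : T, g * k = k * g) (hne : ∃ x : T, x ≠ 1) :
    ∃ (y : T) (n : ℕ), 1 ≤ n ∧ orderOf y = 2 ^ n ∧ ∀ x : T, x ^ 2 ^ n = 1 := by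
  obtain ⟨y, hy⟩ := Finite.exists_max (fun x : T => orderOf x)
  have hord : ∀ x : T, ∃ k, orderOf x = 2 ^ k := by
    intro x
    obtain ⟨k, hk⟩ := hT x
    obtain ⟨j, _, hj⟩ := (Nat.dvd_prime_pow Nat.prime_two).1 (orderOf_dvd_of_pow_eq_one hk)
    exact ⟨j, hj⟩
  obtain ⟨n, hn⟩ := hord y
  have hall : ∀ x : T, x ^ 2 ^ n = 1 := by
    intro x
    obtain ⟨k, hk⟩ := hord x
    have h1 : 2 ^ k ≤ 2 ^ n := by rw [← hk, ← hn]; exact hy x
    have h2 : k ≤ n := (Nat.pow_le_pow_iff_right (by norm_num)).1 h1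
    apply orderOf_dvd_iff_pow_eq_one.1
    rw [hk]
    exact pow_dvd_pow 2 h2
  refine ⟨y, n, ?_, hn, hall⟩
  rcases Nat.eq_zero_or_pos n with h0 | h0
  · exfalso
    obtain ⟨x, hx⟩ := hne
    have := hall x
    rw [h0] at this
    exact hx (by simpa using this)
  · exact h0

end Cfsg.Agent.Lib.Helper47.T2933
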