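import Mathlib
import Cfsg.Agent.Lib.Helper47.T2933.Defs

set_option autoImplicit false

/-! T2933 PartAB piece AB2.  An automorphism `t` with `t² = 1` of a 2-group fixes a non-trivial element of every non-trivial `t`-invariant subgroup.
PROOF: `N` is a 2-group (`hT.to_subgroup N`), `N ≠ ⊥`, so `2 ∣ Nat.card N`.  `f : Equiv.Perm N` (or `Function.End N`), `f n = ⟨t n, _⟩`, `f ^ 2 ^ 1 = 1`;
`Equiv.Perm.card_fixedPoints_modEq` : card N ≡ card (fixedPoints f) mod 2.  So the number of fixed points is even, and `1` is one of them, so there is another one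
(`Fintype.one_lt_card_iff` / `Finite.one_lt_card_iff_nontrivial` + `exists_ne`).  Same pattern as T64/A2.lean with 2 instead of 3. -/
namespace Cfsg.Agent.Lib.Helper47.T2933

theorem AB2_exists_fixed {T : Type*} [Group T] [Finite T] (hT : IsPGroup 2 T) (t : MulAut T)
    (htt : ∀ g, t (t g) = g) (N : Subgroup T) (hN : ∀ n ∈ N, t n ∈ N) (hN1 : N ≠ ⊥) :
    ∃ v ∈ N, v ≠ 1 ∧ t v = v := by
  classical
  have := Fintype.ofFinite N
  have : Fact (Nat.Prime 2) := ⟨Nat.prime_two⟩
  let f : Function.End N := fun n => ⟨t n, hN n n.2⟩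
  have hf : f ^ 2 ^ 1 = 1 := by
    have e : f ^ 2 ^ 1 = f * f := by rw [pow_one, pow_succ, pow_one]
    rw [e]
    funext n
    apply Subtype.ext
    exact htt n
  have h1 := Equiv.Perm.card_fixedPoints_modEq hf
  have h2 : 2 ∣ Fintype.card N := by
    obtain ⟨k, hk⟩ := (IsPGroup.iff_card.1 (hT.to_subgroup N))
    rw [Nat.card_eq_fintype_card] at hk
    rw [hk]
    rcases k with _ | k
    · exfalso
      apply hN1
      apply Subgroup.eq_bot_of_card_eq
      rw [Nat.card_eq_fintype_card, hk, pow_zero]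
    · exact Dvd.intro_left (2 ^ k) rfl
  have h3 : 2 ∣ Fintype.card (Function.fixedPoints f) :=
    (Nat.modEq_zero_iff_dvd).1 (h1.symm.trans ((Nat.modEq_zero_iff_dvd).2 h2))
  have h0 : (⟨1, by apply Subtype.ext; exact map_one t⟩ : Function.fixedPoints f) ∈
      (Finset.univ : Finset (Function.fixedPoints f)) := Finset.mem_univ _
  have h4 : 1 < Fintype.card (Function.fixedPoints f) := by
    have hpos : 0 < Fintype.card (Function.fixedPoints f) := Fintype.card_pos_iff.2 ⟨⟨1, by
      apply Subtype.ext; exact map_one t⟩⟩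
    obtain ⟨c, hc⟩ := h3
    omega
  obtain ⟨⟨a, ha⟩, ⟨b, hb⟩, hab⟩ := Fintype.one_lt_card_iff.1 h4
  have hab' : a ≠ b := fun hc => hab (Subtype.ext hc)
  have hta : t a = a := congrArg Subtype.val ha
  have htb : t b = b := congrArg Subtype.val hb
  by_cases ha1 : (a : T) = 1
  · refine ⟨b, b.2, ?_, htb⟩
    intro hb1
    exact hab' (Subtype.ext (ha1.trans hb1.symm))
  · exact ⟨a, a.2, ha1, hta⟩

end Cfsg.Agent.Lib.Helper47.T2933
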