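import Mathlib
import Cfsg.Agent.Lib.Helper47.T2933.Defs

set_option autoImplicit false

/-! T2933 PartAB piece AB3.  The bound `|W| ≤ 16`.
PROOF: `Vs : Subgroup T` with carrier `{g | t g = g}`, `Nat.card Vs = 4` (`h4`; same subtype).  `f : W →* Vs`, `f y = ⟨y⁻¹ * t y, hW y y.2⟩` is a homomorphism because `T` is commutative
(`(y z)⁻¹ t(y z) = y⁻¹ t y * (z⁻¹ t z)` by `hcomm`; tip: `let _ : CommGroup T := { (inferInstance : Group T) with mul_comm := hcomm }` then `mul_mul_mul_comm`, `mul_inv`).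
`f y = 1 ↔ t y = y`, so `y ↦ ⟨y, _⟩` embeds `f.ker` in `Vs` : `Nat.card f.ker ≤ 4`.  `Nat.card W = Nat.card f.ker * Nat.card f.range` (`Subgroup.card_eq_card_quotient_mul_card_subgroup` + `QuotientGroup.quotientKerEquivRange`, or `MonoidHom.card_... `/`Subgroup.index_ker` + `Subgroup.card_mul_index`), `Nat.card f.range ≤ Nat.card Vs = 4`. -/
namespace Cfsg.Agent.Lib.Helper47.T2933

theorem AB3_bound {T : Type*} [Group T] [Finite T] (t : MulAut T)
    (h4 : Nat.card {g : T // t g = g} = 4) (hcomm : ∀ g k : T, g * k = k * g)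
    (W : Subgroup T) (hW : ∀ y ∈ W, t (y⁻¹ * t y) = y⁻¹ * t y) : Nat.card W ≤ 16 := by
  have hmul : ∀ y z : T, (y * z)⁻¹ * t (y * z) = y⁻¹ * t y * (z⁻¹ * t z) := by
    intro y z
    calc (y * z)⁻¹ * t (y * z) = y⁻¹ * (z⁻¹ * t y * t z) := by
          rw [map_mul, mul_inv_rev, hcomm z⁻¹ y⁻¹, mul_assoc, mul_assoc]
      _ = y⁻¹ * (t y * z⁻¹ * t z) := by rw [hcomm z⁻¹ (t y)]
      _ = y⁻¹ * t y * (z⁻¹ * t z) := by simp only [mul_assoc]
  let f : W →* T :=
    { toFun := fun y => (y : T)⁻¹ * t y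
      map_one' := by simp
      map_mul' := fun y z => hmul y z }
  have hf : ∀ y : W, f y = (y : T)⁻¹ * t y := fun _ => rfl
  have h1 := Subgroup.card_mul_index f.ker
  rw [Subgroup.index_ker f] at h1
  have hk : Nat.card f.ker ≤ 4 := by
    rw [← h4]
    refine Nat.card_le_card_of_injective
      (fun y : f.ker => (⟨((y : W) : T), ?_⟩ : {g : T // t g = g})) ?_
    · have h2 : f (y : W) = 1 := y.2
      rw [hf] at h2
      exact (inv_mul_eq_one.1 h2).symm
    · intro a b hab
      apply Subtype.ext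
      apply Subtype.ext
      exact congrArg (fun x : {g : T // t g = g} => (x : T)) hab
  have hr : Nat.card f.range ≤ 4 := by
    rw [← h4]
    refine Nat.card_le_card_of_injective
      (fun r : f.range => (⟨(r : T), ?_⟩ : {g : T // t g = g})) ?_
    · obtain ⟨y, hy⟩ := r.2
      rw [← hy, hf]
      exact hW y y.2
    · intro a b hab
      apply Subtype.ext
      exact congrArg (fun x : {g : T // t g = g} => (x : T)) hab
  calc Nat.card W = Nat.card f.ker * Nat.card f.range := h1.symm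
    _ ≤ 4 * 4 := Nat.mul_le_mul hk hr
    _ = 16 := by norm_num

end Cfsg.Agent.Lib.Helper47.T2933
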