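import Mathlib
import Cfsg.Agent.Lib.Helper47.T2933.Defs
import Cfsg.Agent.Lib.Helper47.T2933.AB.AB1

set_option autoImplicit false

/-! T2933 PartAB piece AB4.  The fixed points of `t` are involutions.
PROOF: `N : Subgroup T` with carrier `{v | t v = v ∧ v ^ 2 = 1}` (closed under products by `hcomm` : `mul_pow` needs commutativity, `(hcomm' : Commute a b).mul_pow`).  It is `ρ`-invariant (`h.tρ`, `map_pow`).
It embeds in `{g // t g = g}` (order 4); better: `Vs` the subgroup `{g | t g = g}` has order 4, `N ≤ Vs`, so `Nat.card N ∣ 4` (`Subgroup.card_dvd_of_le`).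
`N ≠ ⊥` : Cauchy in `Vs` (`exists_prime_orderOf_dvd_card' 2`) gives an element of order 2.  `AB1_card_mod` : `Nat.card N % 3 = 1`.  So `Nat.card N ∈ {1, 2, 4}`, `≠ 1` (`Subgroup.card_eq_one`/`eq_bot_of_card_eq`), `≠ 2` : it is 4, `N = Vs` (`Subgroup.eq_of_le_of_card_ge`). -/
namespace Cfsg.Agent.Lib.Helper47.T2933

theorem AB4_fixed_sq {T : Type*} [Group T] [Finite T] (ρ t : MulAut T)
    (h : Hyp ρ t) (hcomm : ∀ g k : T, g * k = k * g) (v : T) (hv : t v = v) : v ^ 2 = 1 := by
  let Vs : Subgroup T :=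
    { carrier := {g | t g = g}
      one_mem' := map_one t
      mul_mem' := by
        intro a b ha hb
        have ha' : t a = a := ha
        have hb' : t b = b := hb
        show t (a * b) = a * b
        rw [map_mul, ha', hb']
      inv_mem' := by
        intro a ha
        have ha' : t a = a := ha
        show t a⁻¹ = a⁻¹
        rw [map_inv, ha'] }
  let N : Subgroup T :=
    { carrier := {g | t g = g ∧ g ^ 2 = 1}
      one_mem' := ⟨map_one t, one_pow 2⟩
      mul_mem' := by
        intro a b ha hb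
        have ha' : t a = a ∧ a ^ 2 = 1 := ha
        have hb' : t b = b ∧ b ^ 2 = 1 := hb
        show t (a * b) = a * b ∧ (a * b) ^ 2 = 1
        refine ⟨by rw [map_mul, ha'.1, hb'.1], ?_⟩
        rw [(show Commute a b from hcomm a b).mul_pow, ha'.2, hb'.2, one_mul]
      inv_mem' := by
        intro a ha
        have ha' : t a = a ∧ a ^ 2 = 1 := ha
        show t a⁻¹ = a⁻¹ ∧ a⁻¹ ^ 2 = 1
        exact ⟨by rw [map_inv, ha'.1], by rw [inv_pow, ha'.2, inv_one]⟩ }
  have hVs : Nat.card Vs = 4 := h.fix4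
  have hNV : N ≤ Vs := fun g hg => hg.1
  have hmod : Nat.card N % 3 = 1 := by
    apply AB1_card_mod ρ h.cube h.fpf N
    intro n hn
    have hn' : t n = n ∧ n ^ 2 = 1 := hn
    show t (ρ n) = ρ n ∧ (ρ n) ^ 2 = 1
    exact ⟨by rw [h.tρ, hn'.1], by rw [← map_pow, hn'.2, map_one]⟩
  have hdvd : Nat.card N ∣ 4 := hVs ▸ Subgroup.card_dvd_of_le hNV
  have hne : Nat.card N ≠ 1 := by
    intro h1
    have hbot : N = ⊥ := Subgroup.eq_bot_of_card_eq N h1
    have _ : Fact (Nat.Prime 2) := ⟨Nat.prime_two⟩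
    obtain ⟨x, hx⟩ := exists_prime_orderOf_dvd_card' (G := Vs) 2 (by rw [hVs]; norm_num)
    have hxN : (x : T) ∈ N := by
      refine ⟨x.2, ?_⟩
      have h2 : x ^ 2 = 1 := by rw [← hx]; exact pow_orderOf_eq_one x
      have := congrArg Subtype.val h2
      simpa using this
    rw [hbot, Subgroup.mem_bot] at hxN
    have hx1 : x = 1 := Subtype.ext hxN
    rw [hx1, orderOf_one] at hx
    omega
  have h4 : Nat.card N = 4 := by
    have hle : Nat.card N ≤ 4 := Nat.le_of_dvd (by norm_num) hdvd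
    generalize Nat.card N = n at *
    interval_cases n <;> omega
  have hEq : N = Vs := Subgroup.eq_of_le_of_card_ge hNV (by rw [hVs, h4])
  have hvN : v ∈ N := by rw [hEq]; exact hv
  exact hvN.2

end Cfsg.Agent.Lib.Helper47.T2933
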