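import Mathlib
import Cfsg.Agent.Lib.Helper47.T2933.Defs
import Cfsg.Agent.Lib.Helper47.T2933.AB.AB1
import Cfsg.Agent.Lib.Helper47.T2933.AB.AB3
import Cfsg.Agent.Lib.Helper47.T2933.AB.AB4

set_option autoImplicit false

/-! T2933 PartAB piece AB5.  `|Ω| ∈ {4, 16}` for `Ω = {g | g ^ 2 = 1}`. -/
namespace Cfsg.Agent.Lib.Helper47.T2933

theorem AB5_aux {T : Type*} [Group T] (t : MulAut T) (htt : ∀ g, t (t g) = g)
    (hcomm : ∀ g k : T, g * k = k * g) (w : T) (hw : t (w ^ 2) = w ^ 2) :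
    t (w⁻¹ * t w) = w⁻¹ * t w := by
  have h2 : t w * t w = w * w := by
    rw [← pow_two, ← pow_two, ← map_pow, hw]
  rw [map_mul, map_inv, htt, inv_mul_eq_iff_eq_mul]
  symm
  calc t w * (w⁻¹ * t w) = w⁻¹ * (t w * t w) := by
        rw [← mul_assoc, hcomm (t w) w⁻¹, mul_assoc]
    _ = w⁻¹ * (w * w) := by rw [h2]
    _ = w := by group

theorem AB5_card_omega {T : Type*} [Group T] [Finite T] (hT : IsPGroup 2 T) (ρ t : MulAut T)
    (h : Hyp ρ t) (hcomm : ∀ g k : T, g * k = k * g) :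
    Nat.card {g : T // g ^ 2 = 1} = 4 ∨ Nat.card {g : T // g ^ 2 = 1} = 16 := by
  classical
  let Om : Subgroup T :=
    { carrier := {g | g ^ 2 = 1}
      one_mem' := one_pow 2
      mul_mem' := by
        intro a b ha hb
        have ha' : a ^ 2 = 1 := ha
        have hb' : b ^ 2 = 1 := hb
        show (a * b) ^ 2 = 1
        rw [(show Commute a b from hcomm a b).mul_pow, ha', hb', one_mul]
      inv_mem' := by
        intro a ha
        have ha' : a ^ 2 = 1 := ha
        show (a⁻¹) ^ 2 = 1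
        rw [inv_pow, ha', inv_one] }
  have hOm : Nat.card ↥Om = Nat.card {g : T // g ^ 2 = 1} := rfl
  rw [← hOm]
  have h1 : Nat.card ↥Om % 3 = 1 := AB1_card_mod ρ h.cube h.fpf Om (by
    intro n hn
    have hn' : n ^ 2 = 1 := hn
    show (ρ n) ^ 2 = 1
    rw [← map_pow, hn', map_one])
  have h2 : Nat.card ↥Om ≤ 16 := AB3_bound t h.fix4 hcomm Om (by
    intro y hy
    have hy' : y ^ 2 = 1 := hy
    exact AB5_aux t h.tsq hcomm y (by rw [hy', map_one]))
  have h3 : 4 ≤ Nat.card ↥Om := by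
    rw [← h.fix4]
    refine Nat.card_le_card_of_injective
      (fun g : {g : T // t g = g} => (⟨g.1, AB4_fixed_sq ρ t h hcomm g.1 g.2⟩ : ↥Om)) ?_
    intro a b hab
    exact Subtype.ext (congrArg (fun u : ↥Om => (u : T)) hab)
  obtain ⟨n, hn⟩ := (hT.to_subgroup Om).exists_card_eq
  rw [hn] at h1 h2 h3 ⊢
  have hn4 : n ≤ 4 := by
    by_contra hcon
    have h5 : 5 ≤ n := by omega
    have := Nat.pow_le_pow_right (n := 2) (by norm_num) h5
    omega
  interval_cases n <;> omega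

end Cfsg.Agent.Lib.Helper47.T2933
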