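import Mathlib
import Cfsg.Agent.Lib.Helper47.T2933.Defs
import Cfsg.Agent.Lib.Helper47.T2933.AB.AB2
import Cfsg.Agent.Lib.Helper47.T2933.AB.AB3

set_option autoImplicit false

/-! T2933 PartAB piece AB6.  If `|Ω| = 16` then `T = Ω`. -/
namespace Cfsg.Agent.Lib.Helper47.T2933

theorem AB6_aux {T : Type*} [Group T] (t : MulAut T) (htt : ∀ g, t (t g) = g)
    (hcomm : ∀ g k : T, g * k = k * g) (w : T) (hw : t (w ^ 2) = w ^ 2) :
    t (w⁻¹ * t w) = w⁻¹ * t w := by
  have h2 : t w * t w = w * w := by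
    rw [← pow_two, ← pow_two, ← map_pow, hw]
  rw [map_mul, map_inv, htt, inv_mul_eq_iff_eq_mul]
  symm
  calc t w * (w⁻¹ * t w) = w⁻¹ * (t w * t w) := by
        rw [← mul_assoc, hcomm (t w) w⁻¹, mul_assoc]
    _ = w⁻¹ * (w * w) := by rw [h2]
    _ = w := by group

theorem AB6_elementary {T : Type*} [Group T] [Finite T] (hT : IsPGroup 2 T) (t : MulAut T)
    (htt : ∀ g, t (t g) = g) (h4 : Nat.card {g : T // t g = g} = 4)
    (hcomm : ∀ g k : T, g * k = k * g) (h16 : Nat.card {g : T // g ^ 2 = 1} = 16) (x : T) :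
    x ^ 2 = 1 := by
  classical
  by_contra hx
  let Sq : Subgroup T :=
    { carrier := {g | ∃ y, y ^ 2 = g}
      one_mem' := ⟨1, one_pow 2⟩
      mul_mem' := by
        rintro _ _ ⟨a, rfl⟩ ⟨b, rfl⟩
        exact ⟨a * b, (show Commute a b from hcomm a b).mul_pow 2⟩
      inv_mem' := by
        rintro _ ⟨a, rfl⟩
        exact ⟨a⁻¹, inv_pow a 2⟩ }
  have hSq : ∀ n ∈ Sq, t n ∈ Sq := by
    rintro _ ⟨a, rfl⟩
    exact ⟨t a, (map_pow t a 2).symm⟩
  have hSq1 : Sq ≠ ⊥ := by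
    intro h
    have h1 : x ^ 2 ∈ Sq := ⟨x, rfl⟩
    rw [h, Subgroup.mem_bot] at h1
    exact hx h1
  obtain ⟨v, ⟨y, rfl⟩, hv1, hvt⟩ := AB2_exists_fixed hT t htt Sq hSq hSq1
  let W : Subgroup T :=
    { carrier := {y | t (y ^ 2) = y ^ 2}
      one_mem' := by simp
      mul_mem' := by
        intro a b ha hb
        have ha' : t (a ^ 2) = a ^ 2 := ha
        have hb' : t (b ^ 2) = b ^ 2 := hb
        show t ((a * b) ^ 2) = (a * b) ^ 2
        rw [(show Commute a b from hcomm a b).mul_pow, map_mul, ha', hb']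
      inv_mem' := by
        intro a ha
        have ha' : t (a ^ 2) = a ^ 2 := ha
        show t ((a⁻¹) ^ 2) = (a⁻¹) ^ 2
        rw [inv_pow, map_inv, ha'] }
  have hW : ∀ w ∈ W, t (w⁻¹ * t w) = w⁻¹ * t w := fun w hw => AB6_aux t htt hcomm w hw
  have hb := AB3_bound t h4 hcomm W hW
  let f : {g : T // g ^ 2 = 1} → ↥W := fun g =>
    ⟨g.1, by show t (g.1 ^ 2) = g.1 ^ 2; rw [g.2, map_one]⟩
  have hf : Function.Injective f := by
    intro a b hab
    exact Subtype.ext (congrArg (fun u : ↥W => (u : T)) hab)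
  have hns : ¬ Function.Surjective f := by
    intro hs
    obtain ⟨g, hg⟩ := hs ⟨y, hvt⟩
    have h1 : g.1 = y := congrArg (fun u : ↥W => (u : T)) hg
    exact hv1 (h1 ▸ g.2)
  have := Fintype.ofFinite {g : T // g ^ 2 = 1}
  have := Fintype.ofFinite ↥W
  have hlt := Fintype.card_lt_of_injective_not_surjective f hf hns
  rw [← Nat.card_eq_fintype_card, ← Nat.card_eq_fintype_card] at hlt
  omega

end Cfsg.Agent.Lib.Helper47.T2933
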