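import Mathlib

set_option autoImplicit false

/-! T2933 PartAB piece AB7 (pure Mathlib).  An abelian group of exponent dividing `2 ^ n` with at most 4 solutions of `a ^ 2 = 1` has order `≤ 4 ^ n`.
PROOF: induction on `n` generalizing `A`.  Step: `f : A →* A := powMonoidHom 2`, `|A| = |ker f| * |range f|`. -/
namespace Cfsg.Agent.Lib.Helper47.T2933

universe u

theorem AB7_aux (n : ℕ) : ∀ (A : Type u) [CommGroup A] [Finite A], (∀ a : A, a ^ 2 ^ n = 1) →
    Nat.card {a : A // a ^ 2 = 1} ≤ 4 → Nat.card A ≤ 4 ^ n := by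
  induction n with
  | zero =>
    intro A _ _ hexp _
    have : Subsingleton A := ⟨fun a b => by
      have h1 := hexp a
      have h2 := hexp b
      simp only [pow_zero, pow_one] at h1 h2
      rw [h1, h2]⟩
    rw [pow_zero]
    exact Finite.card_le_one_iff_subsingleton.2 this
  | succ n ih =>
    intro A _ _ hexp hΩ
    let f : A →* A := powMonoidHom 2
    have hf : ∀ a, f a = a ^ 2 := fun a => rfl
    have h1 : Nat.card f.ker * Nat.card f.range = Nat.card A := by
      rw [← Subgroup.index_ker]
      exact Subgroup.card_mul_index _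
    have h2 : Nat.card f.ker ≤ 4 := by
      refine le_trans (Nat.card_le_card_of_injective
        (fun a : f.ker => (⟨a.1, by rw [← hf]; exact a.2⟩ : {a : A // a ^ 2 = 1})) ?_) hΩ
      intro a b hab
      exact Subtype.ext (congrArg Subtype.val hab)
    have h3 : Nat.card f.range ≤ 4 ^ n := by
      apply ih
      · rintro ⟨r, a, rfl⟩
        apply Subtype.ext
        show (f a) ^ 2 ^ n = 1
        rw [hf, ← pow_mul, ← pow_succ']
        exact hexp a
      · refine le_trans (Nat.card_le_card_of_injective
          (fun r : {r : f.range // r ^ 2 = 1} =>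
            (⟨r.1.1, congrArg Subtype.val r.2⟩ : {a : A // a ^ 2 = 1})) ?_) hΩ
        intro a b hab
        have h5 : a.1.1 = b.1.1 := by
          have h6 := Subtype.ext_iff.1 hab
          exact h6
        exact Subtype.ext (Subtype.ext h5)
    rw [← h1, pow_succ, mul_comm]
    exact Nat.mul_le_mul h3 h2

theorem AB7_card_le {A : Type*} [CommGroup A] [Finite A] (n : ℕ) (hexp : ∀ a : A, a ^ 2 ^ n = 1)
    (hΩ : Nat.card {a : A // a ^ 2 = 1} ≤ 4) : Nat.card A ≤ 4 ^ n :=
  AB7_aux n A hexp hΩ

end Cfsg.Agent.Lib.Helper47.T2933
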