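import Mathlib

set_option autoImplicit false

/-! T2933 PartAB piece AB8 (pure Mathlib).  `⟨y⟩ ∩ ⟨ρ y⟩ = 1`. -/
namespace Cfsg.Agent.Lib.Helper47.T2933

/-- a finite cyclic group has at most one element of order 2 -/
theorem AB8_unique_inv {C : Type*} [Group C] [Finite C] [IsCyclic C] (a b : C)
    (ha : a ^ 2 = 1) (ha1 : a ≠ 1) (hb : b ^ 2 = 1) (hb1 : b ≠ 1) : a = b := by
  classical
  have := Fintype.ofFinite C
  by_contra hab
  have h1 := IsCyclic.card_pow_eq_one_le (α := C) (n := 2) (by norm_num)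
  have h2 : ({1, a, b} : Finset C) ⊆ Finset.univ.filter (fun x : C => x ^ 2 = 1) := by
    intro x hx
    simp only [Finset.mem_insert, Finset.mem_singleton] at hx
    rw [Finset.mem_filter]
    refine ⟨Finset.mem_univ _, ?_⟩
    rcases hx with rfl | rfl | rfl
    · simp
    · exact ha
    · exact hb
  have h3 : ({1, a, b} : Finset C).card = 3 := by
    rw [Finset.card_insert_of_notMem, Finset.card_insert_of_notMem, Finset.card_singleton]
    · simpa using hab
    · simp only [Finset.mem_insert, Finset.mem_singleton, not_or]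
      exact ⟨fun h => ha1 h.symm, fun h => hb1 h.symm⟩
  have h4 := Finset.card_le_card h2
  omega

theorem AB8_inf_bot {T : Type*} [Group T] [Finite T] (hT : IsPGroup 2 T) (ρ : MulAut T)
    (hfp : ∀ g, ρ g = g → g = 1) (y : T) :
    Subgroup.zpowers y ⊓ Subgroup.zpowers (ρ y) = ⊥ := by
  classical
  by_contra hne
  have hH : IsPGroup 2 ↥(Subgroup.zpowers y ⊓ Subgroup.zpowers (ρ y)) := hT.to_subgroup _
  have hnt : Nontrivial ↥(Subgroup.zpowers y ⊓ Subgroup.zpowers (ρ y)) :=
    (Subgroup.nontrivial_iff_ne_bot _).2 hne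
  haveI : Fact (Nat.Prime 2) := ⟨Nat.prime_two⟩
  obtain ⟨n, hn⟩ := hH.exists_card_eq
  have hn0 : n ≠ 0 := by
    rintro rfl
    have := Finite.one_lt_card (α := ↥(Subgroup.zpowers y ⊓ Subgroup.zpowers (ρ y)))
    omega
  have hdvd : 2 ∣ Nat.card ↥(Subgroup.zpowers y ⊓ Subgroup.zpowers (ρ y)) := by
    rw [hn]; exact dvd_pow_self 2 hn0
  obtain ⟨⟨z, hz⟩, hoz⟩ := exists_prime_orderOf_dvd_card' 2 hdvd
  have hoz' : orderOf z = 2 := by
    rw [← hoz]; exact (Subgroup.orderOf_mk z hz).symm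
  have hz2 : z ^ 2 = 1 := by rw [← hoz']; exact pow_orderOf_eq_one z
  have hz1 : z ≠ 1 := by
    rintro rfl
    rw [orderOf_one] at hoz'
    omega
  have hρz : ρ z ∈ Subgroup.zpowers (ρ y) := by
    obtain ⟨k, hk⟩ := Subgroup.mem_zpowers_iff.1 hz.1
    rw [← hk, map_zpow]
    exact Subgroup.zpow_mem_zpowers _ _
  have key := AB8_unique_inv (C := ↥(Subgroup.zpowers (ρ y))) ⟨ρ z, hρz⟩ ⟨z, hz.2⟩
    (by ext; simp [← map_pow, hz2])
    (by
      intro h
      have h' : ρ z = 1 := congrArg Subtype.val h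
      exact hz1 (by simpa using h'))
    (by ext; simp [hz2])
    (by
      intro h
      exact hz1 (congrArg Subtype.val h))
  exact hz1 (hfp z (congrArg Subtype.val key))

end Cfsg.Agent.Lib.Helper47.T2933
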