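import Mathlib

set_option autoImplicit false

/-! T2933 PartAB piece AB9 (pure Mathlib).  Two independent elements of order `N` in a commutative group of order `≤ N²`. -/
namespace Cfsg.Agent.Lib.Helper47.T2933

theorem AB9_cyc {T : Type*} [Group T] (N : ℕ) (y : T) (hy : orderOf y = N) :
    Nonempty (↥(Subgroup.zpowers y) ≃* Multiplicative (ZMod N)) := by
  subst hy
  have h : Nat.card ↥(Subgroup.zpowers y) = orderOf y := Nat.card_zpowers y
  have e := zmodCyclicMulEquiv (G := ↥(Subgroup.zpowers y)) inferInstance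
  rw [h] at e
  exact ⟨e.symm⟩

theorem AB9_iso {T : Type*} [Group T] [Finite T] (hcomm : ∀ g k : T, g * k = k * g) (N : ℕ)
    (hN : 0 < N) (y z : T) (hy : orderOf y = N) (hz : orderOf z = N)
    (hyz : Subgroup.zpowers y ⊓ Subgroup.zpowers z = ⊥) (hcard : Nat.card T ≤ N * N) :
    Subgroup.closure {y, z} = ⊤ ∧
      Nonempty (T ≃* Multiplicative (ZMod N) × Multiplicative (ZMod N)) := by
  classical
  let f : ↥(Subgroup.zpowers y) × ↥(Subgroup.zpowers z) →* T :=
    MonoidHom.noncommCoprod (Subgroup.zpowers y).subtype (Subgroup.zpowers z).subtype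
      (fun a b => hcomm _ _)
  have hf : ∀ a b, f (a, b) = (a : T) * (b : T) := fun a b => rfl
  have hinj : Function.Injective f := by
    rw [injective_iff_map_eq_one]
    rintro ⟨a, b⟩ hab
    rw [hf] at hab
    have h1 : (a : T) = (b : T)⁻¹ := eq_inv_of_mul_eq_one_left hab
    have h2 : (a : T) ∈ Subgroup.zpowers y ⊓ Subgroup.zpowers z :=
      ⟨a.2, h1 ▸ (Subgroup.zpowers z).inv_mem b.2⟩
    rw [hyz, Subgroup.mem_bot] at h2
    have h3 : (b : T) = 1 := by rw [h2, one_mul] at hab; exact hab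
    ext
    · exact h2
    · exact h3
  have hc : Nat.card (↥(Subgroup.zpowers y) × ↥(Subgroup.zpowers z)) = N * N := by
    rw [Nat.card_prod, Nat.card_zpowers, Nat.card_zpowers, hy, hz]
  have hbij : Function.Bijective f := hinj.bijective_of_nat_card_le (by rw [hc]; exact hcard)
  refine ⟨?_, ?_⟩
  · rw [eq_top_iff]
    intro x _
    obtain ⟨⟨a, b⟩, rfl⟩ := hbij.2 x
    rw [hf]
    refine Subgroup.mul_mem _ ?_ ?_
    · exact (Subgroup.zpowers_le.2 (Subgroup.subset_closure (by simp))) a.2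
    · exact (Subgroup.zpowers_le.2 (Subgroup.subset_closure (by simp))) b.2
  · obtain ⟨e1⟩ := AB9_cyc N y hy
    obtain ⟨e2⟩ := AB9_cyc N z hz
    exact ⟨(MulEquiv.ofBijective f hbij).symm.trans (MulEquiv.prodCongr e1 e2)⟩

end Cfsg.Agent.Lib.Helper47.T2933
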